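import Groth.Agent.DelIll.K516.Pow
import Groth.Agent.DelIll.K670.VanIter
import Groth.Agent.LogNCD.K922.LogBasis

/-!
# Kodaira-Akizuki-Nakano vanishing with a lift to `W₂`
-/

set_option autoImplicit false
set_option linter.unusedSectionVars false

universe u

open CategoryTheory CategoryTheory.Limits AlgebraicGeometry Opposite TopologicalSpace
open FrobAlg K673.W2Basic K673.Lift FrobSch
open _root_.K904.GeoUp

namespace K516.Kod

variable {p : ℕ} [Fact p.Prime] {k : Type u} [Field k] [CharP k p] [PerfectRing k p]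
variable {X : Scheme.{u}} [X.Over (Spec (CommRingCat.of k))]
variable {Xl : Scheme.{u}} {g : Xl ⟶ Spec (CommRingCat.of (W2 p k))} {i : X ⟶ Xl} [Flat g]
variable {r : ℕ} {D : Fin r → X.IdealSheafData} {Dl : Fin r → Xl.IdealSheafData}
  {Ω' : X.Modules} {d : OmegaSh.Der (X ↘ Spec (CommRingCat.of k)) Ω'}

theorem main [IsProper (X ↘ Spec (CommRingCat.of k))] [Smooth (X ↘ Spec (CommRingCat.of k))]
    (hl : IsPullback i (X ↘ Spec (CommRingCat.of k)) g (spW p k)) (hd : _root_.K922.Coord.AffUniv d)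
    (hD : LogNCD.IsNCD D (X ↘ Spec (CommRingCat.of k))) (hDl : ∀ j, (Dl j).comap i = D j)
    (hDlf : ∀ j, Flat ((Dl j).subschemeι ≫ g)) (Λ : LogNCD.LogMod d D)
    [IrreducibleSpace X] (n : ℕ) (hn : topologicalKrullDim X = n)
    (L Linv : X.Modules) (hL : CohB1.IsAmple L) (hLinv : ClSub.IsInverseOf Linv L)
    (a b : ℕ) (La : X.Modules) (hLa : ExtPow.IsExtPow a Λ.L La)
    (habn : a + b < n) (habp : a + b < p) :
    Subsingleton (Coh.HH X (CohB1.tensorMod La Linv) b) := by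
  have hΛ : FlatMod.IsFinLocFree Λ.L := _root_.K922.LogBasis.isFinLocFree hd hD Λ
  obtain ⟨E, hE, rfl⟩ := K670.VanIter.exists_family (Groth.Agent.PerfA.QCohEpi.isQCoh_of_isFinLocFree hΛ) a hLa
  have hLinv' : ClSub.IsInverseOf L Linv := by
    obtain ⟨e⟩ := hLinv
    exact ⟨Groth.Agent.Ega2.Tens.swap L Linv ≪≫ e⟩
  exact K670.VanIter.main k n hn (Fact.out (p := p.Prime)).one_lt E
    (fun a => Groth.Agent.Sga67.LocBasis.isFinLocFree_of_isExtPow hΛ (hE a)) hL hLinv' a b habn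
    (fun M hM => Pow.main hl hd hD hDl hDlf Λ M hM E hE (a + b) habp)

end K516.Kod
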