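import Groth.Agent.DelIll.K516.TwMain
import Groth.Agent.PerfSch.K818.FrobPow
import Groth.Agent.DelIll.K904.LogCxT
import Groth.Agent.Ega2.TensHom
import Groth.Agent.CurvesA.HHMap

/-!
# The inequality for tensor powers of invertible modules
-/

set_option autoImplicit false
set_option linter.unusedSectionVars false

universe u

open CategoryTheory CategoryTheory.Limits AlgebraicGeometry Opposite TopologicalSpace
open FrobAlg K673.W2Basic K673.Lift FrobSch

open _root_.K904.GeoUp

namespace K516.Pow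

variable {p : ℕ} [Fact p.Prime] {k : Type u} [Field k] [CharP k p] [PerfectRing k p]
variable {X : Scheme.{u}} [X.Over (Spec (CommRingCat.of k))]
variable {Xl : Scheme.{u}} {g : Xl ⟶ Spec (CommRingCat.of (W2 p k))} {i : X ⟶ Xl} [Flat g]
variable {r : ℕ} {D : Fin r → X.IdealSheafData} {Dl : Fin r → Xl.IdealSheafData}
  {Ω' : X.Modules} {d : OmegaSh.Der (X ↘ Spec (CommRingCat.of k)) Ω'}

theorem isCharP (p : ℕ) [Fact p.Prime] (k : Type u) [Field k] [CharP k p] (X : Scheme.{u})
    [X.Over (Spec (CommRingCat.of k))] : IsCharP X p := IsCharP.of_hom (X ↘ Spec (CommRingCat.of k)) p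

theorem finrank_congr (k : Type u) [Field k] {X : Scheme.{u}} [X.Over (Spec (CommRingCat.of k))] {M N : X.Modules}
    (e : M ≅ N) (q : ℕ) : Module.finrank k (Coh.HH X M q) = Module.finrank k (Coh.HH X N q) :=
  (Groth.Agent.CurvesA.HHMap.equivOver k e q).finrank_eq

omit [Fact p.Prime] [CharP k p] [PerfectRing k p] in
theorem isFinLocFree_of_isInvertible {X : Scheme.{u}} {L : X.Modules} (hL : PicF.IsInvertible L) :
    FlatMod.IsFinLocFree L := by
  intro x
  obtain ⟨U, hU, ⟨e⟩⟩ := hL x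
  refine ⟨U, 1, hU, ⟨e ≪≫ ?_⟩⟩
  exact (Limits.coproductUniqueIso (fun _ : Fin 1 => Coh.structureModule (↑U : Scheme.{u}))).symm

theorem main [IsProper (X ↘ Spec (CommRingCat.of k))] [Smooth (X ↘ Spec (CommRingCat.of k))]
    (hl : IsPullback i (X ↘ Spec (CommRingCat.of k)) g (spW p k)) (hd : _root_.K922.Coord.AffUniv d)
    (hD : LogNCD.IsNCD D (X ↘ Spec (CommRingCat.of k))) (hDl : ∀ j, (Dl j).comap i = D j)
    (hDlf : ∀ j, Flat ((Dl j).subschemeι ≫ g)) (Λ : LogNCD.LogMod d D)
    (M : X.Modules) (hM : PicF.IsInvertible M)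
    (La : ℕ → X.Modules) (hLa : ∀ a, ExtPow.IsExtPow a Λ.L (La a)) (l : ℕ) (hlp : l < p) :
    ∑ a ∈ Finset.range (l + 1), Module.finrank k (Coh.HH X (CohB1.tensorMod (La a) M) (l - a)) ≤
      ∑ a ∈ Finset.range (l + 1), Module.finrank k
        (Coh.HH X (CohB1.tensorMod (La a) (CohB1.tensorPow M p)) (l - a)) := by
  have : IsCharP X p := isCharP p k X
  refine (TwMain.main hl hd hD hDl hDlf Λ M (isFinLocFree_of_isInvertible hM) La hLa l hlp).trans
    (le_of_eq (Finset.sum_congr rfl fun a _ => ?_))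
  obtain ⟨e⟩ := K818.FrobPow.nonempty_pullback_frob_iso (p := p) hM
  obtain ⟨e'⟩ := Groth.Agent.Ega2.TensHom.tensCongr (Iso.refl (La a)) e
  exact finrank_congr k e' (l - a)

end K516.Pow
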