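import Groth.Agent.DelIll.K912.AsmFam
import Groth.Agent.DelIll.K904.LatHyp
import Groth.Agent.Krr.H490.LocBasisPull
import Groth.Prelude.Def_Frob

/-!
# The main inequality for components of different dimensions; frames of the Frobenius pull-back
-/

set_option autoImplicit false

universe u

open CategoryTheory CategoryTheory.Limits AlgebraicGeometry Opposite TopologicalSpace
open scoped TensorProduct
open Groth.Agent.Sga67.Sec Groth.Agent.Sga67.LocBasis Groth.Agent.Sga67.ExtSheaf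
open Groth.Agent.Fga.MumCech
open K912.Alt K912.Twist K912.Frame K912.LatCmp K912.Fam K912.Num K912.Dim K912.Seq K912.Asm

namespace K516.TwFam

attribute [local instance] algV modS modP

section fam

variable {p : ℕ} {k : Type u} [Field k] {X : Scheme.{u}} [X.Over (Spec (CommRingCat.of k))]
  {E : X.Modules} {C : Type u} {n : C → ℕ}

/-- The covers of the components. -/
abbrev UU (G : ∀ c, Geo p k X E (n c)) (c : C) (i : (G c).ι) : X.Opens := ((G c).U i).1

/-- The geometric data cover `X` and are disjoint. -/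
structure IsFam (G : ∀ c, Geo p k X E (n c)) : Prop where
  disj : Disj (UU G)
  cov : ⨆ s, tot (UU G) s = ⊤

theorem IsFam.aff {G : ∀ c, Geo p k X E (n c)} (hG : IsFam G) (s : Finset (Σ c, (G c).ι)) (hs : s.Nonempty) :
    IsAffineOpen (⨅ i ∈ s, tot (UU G) i) := by
  obtain ⟨⟨c, i₀⟩, hi₀⟩ := hs
  by_cases h : ∀ i ∈ s, i.1 = c
  · have e : (⨅ i ∈ s, tot (UU G) i) = Us (fun i => ((G c).U i).1) {i | (⟨c, i⟩ : Σ c, (G c).ι) ∈ s} := by
      apply le_antisymm
      · exact le_iInf fun i => le_iInf fun hi => iInf_le_of_le ⟨c, i⟩ (iInf_le_of_le hi le_rfl)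
      · refine le_iInf fun i => le_iInf fun hi => ?_
        obtain ⟨c', i⟩ := i
        have hc' : c' = c := h _ hi
        subst hc'
        exact iInf_le_of_le i (iInf_le_of_le hi le_rfl)
    rw [e]
    exact (G c).aff _ ⟨i₀, hi₀⟩
  · push Not at h
    obtain ⟨i, hi, hic⟩ := h
    have e : (⨅ i ∈ s, tot (UU G) i) = ⊥ := by
      rw [eq_bot_iff, ← hG.disj i.1 c i.2 i₀ hic]
      exact le_inf (iInf_le_of_le i (iInf_le_of_le hi le_rfl))
        (iInf_le_of_le ⟨c, i₀⟩ (iInf_le_of_le hi₀ le_rfl))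
    rw [e]
    exact isAffineOpen_bot X

theorem IsFam.acyc {G : ∀ c, Geo p k X E (n c)} (hG : IsFam G) {N : X.Modules} (hN : Coh.IsQCoh N) :
    AcycM (tot (UU G)) N := acycM _ _ hG.aff hN

variable {G : ∀ c, Geo p k X E (n c)} {J : C → Type} [∀ c, Fintype (J c)] [∀ c, DecidableEq (J c)]
  {M M' : X.Modules} {La : ℕ → X.Modules}
  (φ : ∀ a, Phi a E (La a)) (hφ : ∀ a, PhiComp (φ a))

/-- The realisation spaces. -/
@[reducible] noncomputable def grpW (G : ∀ c, Geo p k X E (n c)) (J : C → Type) (c : C) :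
    AddCommGroup (J c → ExteriorAlgebra Γ(X, (G c).V₀.1) (Sec E (G c).V₀.1)) := inferInstance

/-- The realisation spaces. -/
@[reducible] noncomputable def modW (G : ∀ c, Geo p k X E (n c)) (J : C → Type) (c : C) :
    Module k (J c → ExteriorAlgebra Γ(X, (G c).V₀.1) (Sec E (G c).V₀.1)) := inferInstance

attribute [local instance] grpW modW

theorem finite_fam (hG : IsFam G) (T : ∀ c, Frames (G c) (J c) M) (a q : ℕ)
    (hN : Coh.IsQCoh (CohB1.tensorMod (La a) M))
    (h : Module.Finite k (Coh.HH X (CohB1.tensorMod (La a) M) q)) (c : C) :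
    Module.Finite k (Hc (latN φ hφ (T c) a) q) :=
  finite_comp k (CohB1.tensorMod (La a) M) (fun c => (G c).le)
    (fun c => phik (φ a) (G c).V₀ (T c).μ (tau_bij φ hφ (T c) a) k)
    (fun c => rho_injective φ hφ (T c) a) hG.disj hG.cov (hG.acyc hN) q h c

variable [Fintype C]

theorem finrank_fam (hG : IsFam G) (T : ∀ c, Frames (G c) (J c) M) (a q : ℕ)
    (hN : Coh.IsQCoh (CohB1.tensorMod (La a) M))
    (h : Module.Finite k (Coh.HH X (CohB1.tensorMod (La a) M) q)) :
    Module.finrank k (Coh.HH X (CohB1.tensorMod (La a) M) q) =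
      ∑ c, Module.finrank k (Hc (latN φ hφ (T c) a) q) :=
  K912.Fam.finrank_eq k (CohB1.tensorMod (La a) M) (fun c => (G c).le)
    (fun c => phik (φ a) (G c).V₀ (T c).μ (tau_bij φ hφ (T c) a) k)
    (fun c => rho_injective φ hφ (T c) a) hG.disj hG.cov (hG.acyc hN) q h

theorem finrank_fam_le (hG : IsFam G) (T : ∀ c, Frames (G c) (J c) M) (a q : ℕ)
    (hN : Coh.IsQCoh (CohB1.tensorMod (La a) M)) :
    Module.finrank k (Coh.HH X (CohB1.tensorMod (La a) M) q) ≤
      ∑ c, Module.finrank k (Hc (latN φ hφ (T c) a) q) :=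
  finrank_le k (CohB1.tensorMod (La a) M) (fun c => (G c).le)
    (fun c => phik (φ a) (G c).V₀ (T c).μ (tau_bij φ hφ (T c) a) k)
    (fun c => rho_injective φ hφ (T c) a) hG.disj hG.cov (hG.acyc hN) q

variable [Fact p.Prime] [CharP k p] {P : ∀ c, Pole (G c)}

omit [Fintype C] in
include hφ in
theorem ineq_comp (hG : IsFam G) (hk : ∀ t : k, ∃ u : k, u ^ p = t) (hC : ∀ c, Cartier (P c))
    {T : ∀ c, Frames (G c) (J c) M} {T' : ∀ c, Frames (G c) (J c) M'}
    (hT : ∀ c, IsTw (P c) (T c) (T' c))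
    (hq' : ∀ a, Coh.IsQCoh (CohB1.tensorMod (La a) M'))
    (hfin : ∀ a b, Module.Finite k (Coh.HH X (CohB1.tensorMod (La a) M') b)) (m : ℕ) (hm : m < p)
    (c : C) :
    ∑ a ∈ Finset.range (m + 1), Module.finrank k (Hc (latN φ hφ (T c) a) (m - a)) ≤
      ∑ a ∈ Finset.range (m + 1), Module.finrank k (Hc (latN φ hφ (T' c) a) (m - a)) := by
  have := (G c).charP
  exact sum_finrank_le (hyp φ hφ hk (hC c) (hT c)) (Fact.out (p := p.Prime)).ne_zero hk
    (fun t g => ψJ_smul (G c).D t g) m (fun a ha => surj φ hφ hk (hC c) (hT c) a (by omega))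
    (fun a ha => inj φ hφ hk (hC c) (hT c) a (by omega))
    (fun a _ => finite_fam φ hφ hG T' a (m - a) (hq' a) (hfin a _) c)

include hφ in
/-- **The main inequality.** -/
theorem main_ineq_fam (hG : IsFam G) (hk : ∀ t : k, ∃ u : k, u ^ p = t) (hC : ∀ c, Cartier (P c))
    {T : ∀ c, Frames (G c) (J c) M} {T' : ∀ c, Frames (G c) (J c) M'}
    (hT : ∀ c, IsTw (P c) (T c) (T' c)) (hq : ∀ a, Coh.IsQCoh (CohB1.tensorMod (La a) M))
    (hq' : ∀ a, Coh.IsQCoh (CohB1.tensorMod (La a) M'))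
    (hfin : ∀ a b, Module.Finite k (Coh.HH X (CohB1.tensorMod (La a) M') b)) (m : ℕ) (hm : m < p) :
    ∑ a ∈ Finset.range (m + 1), Module.finrank k (Coh.HH X (CohB1.tensorMod (La a) M) (m - a)) ≤
      ∑ a ∈ Finset.range (m + 1), Module.finrank k (Coh.HH X (CohB1.tensorMod (La a) M') (m - a)) := by
  refine le_trans (Finset.sum_le_sum fun a _ => finrank_fam_le φ hφ hG T a (m - a) (hq a)) ?_
  refine le_trans ?_ (le_of_eq (Finset.sum_congr rfl fun a _ =>
    (finrank_fam φ hφ hG T' a (m - a) (hq' a) (hfin a _)).symm))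
  rw [Finset.sum_comm, Finset.sum_comm (s := Finset.range (m + 1)) (t := Finset.univ)]
  exact Finset.sum_le_sum fun c _ => ineq_comp φ hφ hG hk hC hT hq' hfin m hm c

end fam

section frames

open Groth.Agent.Krr.H490.LocBasisPull Groth.Agent.VarietyB FrobSch K904.LatHyp

variable {p : ℕ} [Fact p.Prime] {X : Scheme.{u}} [IsCharP X p]

/-- The pull-back of sections under the absolute Frobenius. -/
noncomputable abbrev fsec (p : ℕ) [Fact p.Prime] {X : Scheme.{u}} [IsCharP X p] (M : X.Modules) {U V : X.Opens} (e : V ≤ U) :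
    Sec M U →+ Sec ((Scheme.Modules.pullback (frob X p)).obj M) V :=
  PullSec.sec (frob X p) M (show V ≤ frob X p ⁻¹ᵁ U from e)

theorem appLE_frob {U V : X.Opens} (e : V ≤ U) (a : Γ(X, U)) :
    (frob X p).appLE U V (show V ≤ frob X p ⁻¹ᵁ U from e) a = resO X e a ^ p := by
  rw [← map_pow]
  rfl

theorem fsec_smul (M : X.Modules) {U : X.Opens} (a : Γ(X, U)) (s : Sec M U) :
    fsec p M (le_refl U) (a • s) = a ^ p • fsec p M (le_refl U) s := by
  refine (PullSec.sec_smul (frob X p) M (le_refl U) a s).trans ?_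
  congr 1
  refine (appLE_frob (le_refl U) a).trans ?_
  rw [resO_self]

theorem res_fsec (M : X.Modules) {U V : X.Opens} (e : V ≤ U) (s : Sec M U) :
    res _ e (fsec p M (le_refl U) s) = fsec p M (le_refl V) (res M e s) :=
  PullSec.sec_res (frob X p) M (U := U) (V := U) (le_refl U) (U' := V) (V' := V) (le_refl V) e e s

variable {k : Type u} [Field k] [X.Over (Spec (CommRingCat.of k))] {E : X.Modules} {n : ℕ} (G : Geo p k X E n)

/-- **Frames of `M` and of its Frobenius pull-back.** -/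
theorem exists_frames {J : Type} [Fintype J] {M : X.Modules} (m : ∀ i, J → Sec M (G.U i).1)
    (hm : ∀ i, IsLocBasis (m i)) :
    ∃ (T : Frames G J M) (T' : Frames G J ((Scheme.Modules.pullback (frob X p)).obj M)), IsTw (triv G) T T' := by
  obtain ⟨i₀⟩ := G.nonempty_ι
  have hm' : ∀ i, IsLocBasis (fun j => fsec p M (le_refl (G.U i).1) (m i j)) := fun i =>
    isLocBasis_psec (frob X p) M (le_refl (G.U i).1) (hm i)
  let β := (hm i₀).basis (G.le i₀)
  let β' := (hm' i₀).basis (G.le i₀)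
  refine ⟨⟨m, hm, β.equivFun⟩, ⟨fun i j => fsec p M (le_refl (G.U i).1) (m i j), hm', β'.equivFun⟩, ?_⟩
  intro i j c
  change β'.equivFun (res _ (G.le i) (fsec p M (le_refl (G.U i).1) (m i c))) j =
    ((1 : G.Rˣ)⁻¹).1 * β.equivFun (res M (G.le i) (m i c)) j ^ p
  rw [inv_one, Units.val_one, one_mul, res_fsec]
  set x := res M (G.le i) (m i c) with hx
  have h1 : x = ∑ l, β.equivFun x l • β l := (β.sum_equivFun x).symm
  have h2 : fsec p M (le_refl G.V₀.1) x = ∑ l, (β.equivFun x l ^ p) • β' l := by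
    conv_lhs => rw [h1]
    rw [map_sum]
    refine Finset.sum_congr rfl fun l _ => ?_
    rw [fsec_smul]
    congr 1
    rw [IsLocBasis.basis_apply, IsLocBasis.basis_apply, res_fsec]
  rw [h2]
  have h3 := congrFun (β'.equivFun.apply_symm_apply (fun l => β.equivFun x l ^ p)) j
  rwa [β'.equivFun_symm_apply] at h3

end frames

end K516.TwFam
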