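import Groth.Agent.DelIll.K516.TwFam
import Groth.Agent.DelIll.K904.FmExists
import Groth.Agent.LogNCD.K922.Univ
import Groth.Agent.DelIll.K904.LogCxM
import Groth.Agent.PerfA.CohSerre
import Groth.Agent.S0002
import Groth.Agent.Sga67.LocBasisOps
import Groth.Agent.PerfB.FlatPull

/-!
# `∑ h^b(Ω^a(log D) ⊗ M) ≤ ∑ h^b(Ω^a(log D) ⊗ F^* M)` in total degrees `< p`
-/

set_option autoImplicit false
set_option linter.unusedSectionVars false

universe u

open CategoryTheory CategoryTheory.Limits AlgebraicGeometry Opposite TopologicalSpace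
open Groth.Agent.Sga67.Sec Groth.Agent.Sga67.LocBasis Groth.Agent.Sga67.ExtSheaf FrobAlg K673.W2Basic K673.Lift

namespace K516.TwMain

open _root_.K904.GeoUp _root_.K904.GeoDt _root_.K904.GeoCh _root_.K922.DSec _root_.K904.GeoCover
open _root_.K904.FmExists _root_.K922.Coord FrobSch
open K912.Fam K912.Asm

variable {p : ℕ} [Fact p.Prime] {k : Type u} [Field k] [CharP k p] [PerfectRing k p]
variable {X : Scheme.{u}} [X.Over (Spec (CommRingCat.of k))]
variable {Xl : Scheme.{u}} {g : Xl ⟶ Spec (CommRingCat.of (W2 p k))} {i : X ⟶ Xl} [Flat g]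
variable {r : ℕ} {D : Fin r → X.IdealSheafData} {Dl : Fin r → Xl.IdealSheafData}
  {Ω' : X.Modules} {d : OmegaSh.Der (X ↘ Spec (CommRingCat.of k)) Ω'}

omit [CharP k p] [PerfectRing k p] [Fact p.Prime] in
/-- Local bases over the charts of one component have the same size. -/
theorem exists_uniform {E : X.Modules} {n : ℕ} (G : Geo p k X E n) {M : X.Modules}
    (h : ∀ j, ∃ (s : ℕ) (m : Fin s → Sec M (G.U j).1), IsLocBasis m) (hne : Nonempty G.V₀.1) :
    ∃ (s : ℕ) (m : ∀ j, Fin s → Sec M (G.U j).1), ∀ j, IsLocBasis (m j) := by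
  choose s m hm using h
  obtain ⟨j₀⟩ := G.nonempty_ι
  have : Nontrivial Γ(X, G.V₀.1) := inferInstance
  have he : ∀ j, s j₀ = s j := fun j =>
    Fin.equiv_iff_eq.1 ⟨((hm j₀).basis (G.le j₀)).indexEquiv ((hm j).basis (G.le j))⟩
  exact ⟨s j₀, fun j l => m j (Fin.cast (he j) l), fun j => (hm j).reindex (finCongr (he j))⟩

theorem exists_root (t : k) : ∃ u : k, u ^ p = t := (frobeniusEquiv k p).surjective t

/-- **The inequality for finite locally free modules.** -/
theorem main [IsProper (X ↘ Spec (CommRingCat.of k))]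
    [Smooth (X ↘ Spec (CommRingCat.of k))] [IsCharP X p]
    (hl : IsPullback i (X ↘ Spec (CommRingCat.of k)) g (spW p k)) (hd : _root_.K922.Coord.AffUniv d)
    (hD : LogNCD.IsNCD D (X ↘ Spec (CommRingCat.of k))) (hDl : ∀ j, (Dl j).comap i = D j)
    (hDlf : ∀ j, Flat ((Dl j).subschemeι ≫ g)) (Λ : LogNCD.LogMod d D)
    (M : X.Modules) (hM : FlatMod.IsFinLocFree M)
    (La : ℕ → X.Modules) (hLa : ∀ a, ExtPow.IsExtPow a Λ.L (La a)) (l : ℕ) (hlp : l < p) :
    ∑ a ∈ Finset.range (l + 1), Module.finrank k (Coh.HH X (CohB1.tensorMod (La a) M) (l - a)) ≤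
      ∑ a ∈ Finset.range (l + 1), Module.finrank k
        (Coh.HH X (CohB1.tensorMod (La a) ((Scheme.Modules.pullback (frob X p)).obj M)) (l - a)) := by
  have : IsClosedImmersion i := isClosedImmersion hl
  have : Surjective i := _root_.K904.GeoUp.surjective hl
  have : CompactSpace X := QuasiCompact.compactSpace_of_compactSpace (X ↘ Spec (CommRingCat.of k))
  have : X.IsSeparated := ⟨by
    rw [← terminal.comp_from (X ↘ Spec (CommRingCat.of k))]
    infer_instance⟩
  have : IsLocallyNoetherian X := LocallyOfFiniteType.isLocallyNoetherian (X ↘ Spec (CommRingCat.of k))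
  have : IsNoetherian X := ⟨⟩
  have : IsReduced X := Groth.Agent.Etcore.SmoothRed.isReduced_of_smooth (X ↘ Spec (CommRingCat.of k))
  have : CharX X p := charX p k X
  obtain ⟨hdisj, hopen⟩ := components (X ↘ Spec (CommRingCat.of k))
  have hfin : (irreducibleComponents X).Finite := NoetherianSpace.finite_irreducibleComponents
  let _ : Fintype (irreducibleComponents X) := hfin.fintype
  let T : irreducibleComponents X → X.Opens := fun c => ⟨c.1, hopen c.1 c.2⟩
  have hT : ∀ c : irreducibleComponents X, IsIrreducible (T c : Set X) := fun c => c.2.1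
  let P : X.Opens → Prop := fun U => ∃ (s : ℕ) (m : Fin s → Sec M U), IsLocBasis m
  have hP : ∀ x : X, ∃ O : X.Opens, x ∈ O ∧ ∀ U ≤ O, P U := fun x => by
    obtain ⟨O, s, hx, m, hm⟩ := (isFinLocFree_iff M).1 hM x
    exact ⟨O, hx, fun U hU => ⟨s, fun j => res M hU (m j), IsLocBasis.restrict hm hU⟩⟩
  have hC : ∀ c : irreducibleComponents X, ∃ C : K904.GeoCovT.Cov i Dl Λ (T c), ∀ j : C.ι, P (C.W j).U := fun c =>
    K904.GeoCovT.exists_cov (isClosed_of_mem_irreducibleComponents c.1 c.2).isCompact (hT c) hl hd hD hDl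
      P (fun x _ => hP x)
  choose C hCP using hC
  let G : ∀ c : irreducibleComponents X, Geo p k X Λ.L ((C c).L (C c).ne.some).n := fun c => (C c).geo hl hDl hDlf
  have hG : TwFam.IsFam G := by
    constructor
    · intro c c' j j' hcc
      have h1 : T c ⊓ T c' = ⊥ := by
        rw [eq_bot_iff]
        intro x hx
        have h2 := hdisj c.2 c'.2 (fun h => hcc (Subtype.ext h))
        exact (Set.disjoint_iff.1 h2 ⟨hx.1, hx.2⟩).elim
      rw [eq_bot_iff, ← h1]
      exact inf_le_inf ((C c).le j) ((C c').le j')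
    · rw [eq_top_iff]
      intro x _
      let c : irreducibleComponents X := ⟨irreducibleComponent x, irreducibleComponent_mem_irreducibleComponents x⟩
      have hx : x ∈ T c := mem_irreducibleComponent
      rw [← (C c).sup] at hx
      obtain ⟨j, hj⟩ := Opens.mem_iSup.1 hx
      exact Opens.mem_iSup.2 ⟨⟨c, j⟩, hj⟩
  have hF : ∀ c, ∃ (s : ℕ) (m : ∀ j, Fin s → Sec M ((G c).U j).1), ∀ j, IsLocBasis (m j) := fun c =>
    exists_uniform (G c) (fun j => hCP c j) (C c).V0.ne
  choose s m hm using hF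
  have hFr : ∀ c, ∃ (T : Frames (G c) (Fin (s c)) M)
      (T' : Frames (G c) (Fin (s c)) ((Scheme.Modules.pullback (frob X p)).obj M)), IsTw (K904.LatHyp.triv (G c)) T T' :=
    fun c => TwFam.exists_frames (G c) (m c) (hm c)
  choose T₁ T₂ hT₂ using hFr
  choose φ hφ using fun a => exists_phi (hLa a)
  have hΛ : FlatMod.IsFinLocFree Λ.L := _root_.K922.LogBasis.isFinLocFree hd hD Λ
  have hLaf : ∀ a, FlatMod.IsFinLocFree (La a) := fun a => isFinLocFree_of_isExtPow hΛ (hLa a)
  have hM' : FlatMod.IsFinLocFree ((Scheme.Modules.pullback (frob X p)).obj M) :=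
    Groth.Agent.PerfB.FlatPull.isFinLocFree_pullback _ hM
  have hq : ∀ a, Coh.IsQCoh (CohB1.tensorMod (La a) M) := fun a =>
    Groth.Agent.PerfA.QCohEpi.isQCoh_of_isFinLocFree (isFinLocFree_tensorMod (hLaf a) hM)
  have hq' : ∀ a, Coh.IsQCoh (CohB1.tensorMod (La a) ((Scheme.Modules.pullback (frob X p)).obj M)) := fun a =>
    Groth.Agent.PerfA.QCohEpi.isQCoh_of_isFinLocFree (isFinLocFree_tensorMod (hLaf a) hM')
  have hfin' : ∀ a b, Module.Finite k
      (Coh.HH X (CohB1.tensorMod (La a) ((Scheme.Modules.pullback (frob X p)).obj M)) b) := fun a b =>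
    Groth.Agent.S0002.result k X _
      (Groth.Agent.PerfA.CohSerre.isCoh_of_isFinLocFree (isFinLocFree_tensorMod (hLaf a) hM')) b
  exact TwFam.main_ineq_fam φ hφ hG exists_root (fun c => (C c).cartier hl hDl hDlf) hT₂ hq hq' hfin' l hlp

end K516.TwMain
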